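import Mathlib

set_option autoImplicit false
universe u

namespace Groth.Agent.H5.GenSm

/-- generic smoothness in characteristic zero, ring level: an injective finitely presented map of
domains of characteristic zero is smooth after inverting a nonzero element of the target. -/
theorem exists_smooth_away {B A : Type u} [CommRing B] [CommRing A] [IsDomain B] [IsDomain A]
    [Algebra B A] [Algebra.FinitePresentation B A] [CharZero B]
    (hinj : Function.Injective (algebraMap B A)) :
    ∃ g : A, g ≠ 0 ∧ Algebra.Smooth B (Localization.Away g) := by
  let K := FractionRing B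
  let L := FractionRing A
  haveI : FaithfulSMul B A := (faithfulSMul_iff_algebraMap_injective B A).mpr hinj
  haveI : FaithfulSMul B L := by
    rw [faithfulSMul_iff_algebraMap_injective, IsScalarTower.algebraMap_eq B A L]
    exact (IsFractionRing.injective A L).comp hinj
  letI : Algebra K L := FractionRing.liftAlgebra B L
  haveI : IsScalarTower B K L := FractionRing.isScalarTower_liftAlgebra B L
  haveI : CharZero K := charZero_of_injective_algebraMap (IsFractionRing.injective B K)
  haveI : Algebra.EssFiniteType B A := inferInstance
  haveI : Algebra.EssFiniteType A L := Algebra.EssFiniteType.of_isLocalization L (nonZeroDivisors A)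
  haveI : Algebra.EssFiniteType B L := Algebra.EssFiniteType.comp B A L
  haveI : Algebra.EssFiniteType K L := Algebra.EssFiniteType.of_comp B K L
  haveI : Algebra.FormallySmooth K L := inferInstance
  haveI : Algebra.FormallySmooth B K := Algebra.FormallySmooth.of_isLocalization (nonZeroDivisors B)
  haveI : Algebra.FormallySmooth B L := Algebra.FormallySmooth.comp B K L
  have hcompl : (⊥ : Ideal A).primeCompl = nonZeroDivisors A := by
    ext a
    simp [Ideal.primeCompl, mem_nonZeroDivisors_iff_ne_zero]
  haveI : IsLocalization (⊥ : Ideal A).primeCompl L := by rw [hcompl]; infer_instance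
  let e : L ≃ₐ[A] Localization.AtPrime (⊥ : Ideal A) :=
    IsLocalization.algEquiv (⊥ : Ideal A).primeCompl L (Localization.AtPrime (⊥ : Ideal A))
  haveI : Algebra.IsSmoothAt B (⊥ : Ideal A) :=
    Algebra.FormallySmooth.of_equiv (e.restrictScalars B)
  obtain ⟨g, hg, hsm⟩ := Algebra.IsSmoothAt.exists_notMem_smooth B (⊥ : Ideal A)
  exact ⟨g, fun h => hg (by rw [h]; exact zero_mem _), hsm⟩

end Groth.Agent.H5.GenSm
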