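import Mathlib
import Groth.Agent.Lib.Helper5.GenSm.A

set_option autoImplicit false
universe u
open CategoryTheory AlgebraicGeometry TopologicalSpace Opposite

namespace Groth.Agent.H5.GenSm

/-- smoothness of `U.ι ≫ f` from smoothness of the ring map on affine opens. -/
theorem smooth_ι_comp {X Y : Scheme.{u}} (f : X ⟶ Y) {V : Y.Opens} (hV : IsAffineOpen V)
    {U : X.Opens} (hU : IsAffineOpen U) (e : U ≤ f ⁻¹ᵁ V) (h : (f.appLE V U e).hom.Smooth) :
    Smooth (U.ι ≫ f) := by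
  haveI : IsAffine U.toScheme := hU
  haveI : IsAffine V.toScheme := hV
  have h1 : Smooth (f.resLE V U e) := by
    rw [HasRingHomProperty.iff_of_isAffine (P := @Smooth)]
    have h2 : (f.resLE V U e).appTop = V.topIso.hom ≫ f.appLE V U e ≫ U.topIso.inv :=
      Scheme.Hom.resLE_app_top f e
    rw [h2, CommRingCat.hom_comp, RingHom.Smooth.respectsIso.cancel_left_isIso,
      CommRingCat.hom_comp, RingHom.Smooth.respectsIso.cancel_right_isIso]
    exact h
  rw [← Scheme.Hom.resLE_comp_ι f e]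
  infer_instance

theorem main (k : Type u) [Field k] [CharZero k]
    {X Y : Scheme.{u}} (qX : X ⟶ Spec (CommRingCat.of k)) (qY : Y ⟶ Spec (CommRingCat.of k))
    [LocallyOfFiniteType qX] [LocallyOfFiniteType qY]
    [IsIntegral X] [IsIntegral Y] (f : X ⟶ Y) (hf : f ≫ qY = qX) (hdom : DenseRange f.base) :
    ∃ U : X.Opens, (U : Set ↥X).Nonempty ∧ Smooth (U.ι ≫ f) := by
  haveI : LocallyOfFiniteType (f ≫ qY) := by rw [hf]; infer_instance
  haveI : LocallyOfFiniteType f := locallyOfFiniteType_of_comp f qY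
  haveI : IsLocallyNoetherian Y := LocallyOfFiniteType.isLocallyNoetherian qY
  obtain ⟨y⟩ : Nonempty Y := inferInstance
  obtain ⟨V, hV, hyV, -⟩ := exists_isAffineOpen_mem_and_subset (x := y) (U := ⊤) trivial
  obtain ⟨x, hxV⟩ := hdom.exists_mem_open V.2 ⟨y, hyV⟩
  have hxV' : x ∈ f ⁻¹ᵁ V := hxV
  obtain ⟨U₀, hU₀, hxU₀, e⟩ := exists_isAffineOpen_mem_and_subset (x := x) (U := f ⁻¹ᵁ V) hxV'
  haveI : Nonempty ↥(U₀ : Scheme.{u}) := ⟨⟨x, hxU₀⟩⟩
  haveI : Nonempty ↥(V : Scheme.{u}) := ⟨⟨y, hyV⟩⟩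
  letI algBA : Algebra Γ(Y, V) Γ(X, U₀) := (f.appLE V U₀ e).hom.toAlgebra
  haveI : IsDomain Γ(Y, V) := IsIntegral.component_integral V
  haveI : IsDomain Γ(X, U₀) := IsIntegral.component_integral U₀
  haveI : IsNoetherianRing Γ(Y, V) := IsLocallyNoetherian.component_noetherian ⟨V, hV⟩
  haveI : Algebra.FinitePresentation Γ(Y, V) Γ(X, U₀) := by
    have h1 : (f.appLE V U₀ e).hom.FiniteType :=
      HasRingHomProperty.appLE (P := @LocallyOfFiniteType) f inferInstance ⟨V, hV⟩ ⟨U₀, hU₀⟩ e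
    exact Algebra.FinitePresentation.of_finiteType.mp h1
  -- characteristic zero
  haveI : CharZero Γ(Y, V) := by
    let ψ : k →+* Γ(Y, V) :=
      (qY.appLE ⊤ V le_top).hom.comp (Scheme.ΓSpecIso (CommRingCat.of k)).inv.hom
    exact charZero_of_injective_ringHom ψ.injective
  -- injectivity
  have hinj : Function.Injective (algebraMap Γ(Y, V) Γ(X, U₀)) := by
    rw [injective_iff_map_eq_zero]
    intro b hb
    by_contra hb0
    have h1 : Y.basicOpen b ≠ ⊥ := fun h => hb0 ((basicOpen_eq_bot_iff b).mp h)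
    have h2 : (Y.basicOpen b : Set Y).Nonempty := by
      rw [Set.nonempty_iff_ne_empty]
      intro h
      exact h1 (Opens.ext h)
    obtain ⟨y', hy'⟩ := h2
    obtain ⟨x', hx'⟩ := hdom.exists_mem_open (Y.basicOpen b).2 ⟨y', hy'⟩
    have h3 : ((f ⁻¹ᵁ Y.basicOpen b : X.Opens) : Set X).Nonempty := ⟨x', hx'⟩
    have h4 : ((U₀ : Set X) ∩ (f ⁻¹ᵁ Y.basicOpen b : X.Opens)).Nonempty :=
      nonempty_preirreducible_inter U₀.2 (f ⁻¹ᵁ Y.basicOpen b).2 ⟨x, hxU₀⟩ h3
    have h5 := Scheme.basicOpen_appLE f U₀ V e b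
    have hb' : (f.appLE V U₀ e).hom b = 0 := hb
    rw [show (f.appLE V U₀ e) b = 0 from hb', Scheme.basicOpen_zero] at h5
    obtain ⟨z, hz⟩ := h4
    have h6 : z ∈ (⊥ : X.Opens) := by rw [h5]; exact hz
    exact h6
  obtain ⟨g, hg0, hsm⟩ := exists_smooth_away (B := Γ(Y, V)) (A := Γ(X, U₀)) hinj
  refine ⟨X.basicOpen g, ?_, ?_⟩
  · rw [Set.nonempty_iff_ne_empty]
    intro h
    exact hg0 ((basicOpen_eq_bot_iff g).mp (Opens.ext h))
  · have e' : X.basicOpen g ≤ f ⁻¹ᵁ V := (X.basicOpen_le g).trans e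
    apply smooth_ι_comp f hV (hU₀.basicOpen g) e'
    letI algA : Algebra Γ(X, U₀) Γ(X, X.basicOpen g) :=
      (X.presheaf.map (homOfLE (X.basicOpen_le g)).op).hom.toAlgebra
    haveI : IsLocalization.Away g Γ(X, X.basicOpen g) := hU₀.isLocalization_basicOpen g
    letI algB : Algebra Γ(Y, V) Γ(X, X.basicOpen g) :=
      ((algebraMap Γ(X, U₀) Γ(X, X.basicOpen g)).comp (algebraMap Γ(Y, V) Γ(X, U₀))).toAlgebra
    haveI : IsScalarTower Γ(Y, V) Γ(X, U₀) Γ(X, X.basicOpen g) :=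
      IsScalarTower.of_algebraMap_eq (fun _ => rfl)
    let e2 : Localization.Away g ≃ₐ[Γ(X, U₀)] Γ(X, X.basicOpen g) :=
      IsLocalization.algEquiv (Submonoid.powers g) _ _
    haveI : Algebra.Smooth Γ(Y, V) Γ(X, X.basicOpen g) :=
      Algebra.Smooth.of_equiv (e2.restrictScalars Γ(Y, V))
    have h7 : (algebraMap Γ(Y, V) Γ(X, X.basicOpen g)).Smooth := RingHom.smooth_algebraMap.mpr ‹_›
    have h8 : f.appLE V (X.basicOpen g) e' =
        f.appLE V U₀ e ≫ X.presheaf.map (homOfLE (X.basicOpen_le g)).op :=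
      (Scheme.Hom.appLE_map f e (homOfLE (X.basicOpen_le g)).op).symm
    rw [h8]
    exact h7

end Groth.Agent.H5.GenSm
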